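import Cfsg.Prelude.Def_HallClasses
import Cfsg.Agent.Lib.Transfer.Alperin
import Cfsg.Agent.Lib.CharInt.HallTransfer
import Cfsg.Agent.Lib.Replacement.Basic
import Mathlib.GroupTheory.SchurZassenhaus

/-!
# π-homogeneous groups with property D_π

`exists_conj_of_isConj`: if every π-subgroup is conjugate into the π-subgroup `H` and every
π'-element of a normalizer of a π-subgroup `X` centralizes `X`, then `H` controls the fusion of
its elements.  `exists_normal_complement`: then `H` has a normal complement.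
-/

set_option autoImplicit false
set_option linter.style.haveILetI false
set_option linter.unusedSectionVars false

namespace Cfsg.Agent.DPiHom

open Cfsg Cfsg.Agent.Transfer

universe u

variable {G : Type u} [Group G] [Finite G] {π : Set ℕ}

/-- The π'-elements of the normalizer of a π-subgroup centralize it. -/
def PiHom (π : Set ℕ) (G : Type u) [Group G] : Prop :=
  ∀ X : Subgroup G, IsPiSubgroup π X → ∀ n ∈ Subgroup.normalizer (X : Set G),
    (∀ p : ℕ, p.Prime → p ∣ orderOf n → p ∉ π) → n ∈ Subgroup.centralizer (X : Set G)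

/-- Every π-subgroup is conjugate into `H`. -/
def PiCover (π : Set ℕ) (H : Subgroup G) : Prop :=
  ∀ U : Subgroup G, IsPiSubgroup π U → ∃ g : G, ∀ u ∈ U, g⁻¹ * u * g ∈ H

theorem piHom_of_relIndex
    (h : ∀ H : Subgroup G, H ≠ ⊥ → (∀ p : ℕ, p.Prime → p ∣ Nat.card ↥H → p ∈ π) →
      ∀ p : ℕ, p.Prime → p ∣ (Subgroup.centralizer (H : Set G)).relIndex
        (Subgroup.normalizer (H : Set G)) → p ∈ π) : PiHom π G := by
  intro X hX n hn hord
  by_cases hbot : X = ⊥
  · subst hbot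
    rw [Subgroup.mem_centralizer_iff]
    intro y hy
    rw [SetLike.mem_coe, Subgroup.mem_bot] at hy
    simp [hy]
  set N := Subgroup.normalizer (X : Set G)
  set C := Subgroup.centralizer (X : Set G)
  have hcop : Nat.Coprime (orderOf (⟨n, hn⟩ : N)) (C.subgroupOf N).index := by
    refine Nat.coprime_of_dvd fun q hq hq1 hq2 => ?_
    rw [Subgroup.orderOf_mk] at hq1
    exact hord q hq hq1 (h X hbot hX q hq hq2)
  have hpow := Subgroup.pow_index_mem (C.subgroupOf N) (⟨n, hn⟩ : N)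
  obtain ⟨m, hm⟩ := exists_pow_eq_self_of_coprime hcop.symm
  have h2 := Subgroup.pow_mem _ hpow m
  rw [hm, Subgroup.mem_subgroupOf] at h2
  exact h2

theorem piHom_subgroup (hG : PiHom π G) (K : Subgroup G) : PiHom π K := by
  intro X hX n hn hord
  have hX' : IsPiSubgroup π (X.map K.subtype) := by
    intro q hq hd
    rw [Subgroup.card_subtype] at hd
    exact hX q hq hd
  have h1 : (n : G) ∈ Subgroup.centralizer ((X.map K.subtype : Subgroup G) : Set G) :=
    hG _ hX' _ (Subgroup.le_normalizer_map K.subtype ⟨n, hn, rfl⟩)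
      (by rw [Subgroup.orderOf_coe]; exact hord)
  rw [Subgroup.mem_centralizer_iff] at h1 ⊢
  intro y hy
  exact Subtype.ext (h1 y ⟨y, hy, rfl⟩)

theorem isPiSubgroup_of_isPGroup {p : ℕ} [hp : Fact p.Prime] (hpπ : p ∈ π) {U : Subgroup G}
    (hU : IsPGroup p U) : IsPiSubgroup π U := by
  intro q hq hd
  obtain ⟨k, hk⟩ := IsPGroup.iff_card.mp hU
  rw [hk] at hd
  exact ((Nat.prime_dvd_prime_iff_eq hq hp.out).mp (hq.dvd_of_dvd_pow hd)) ▸ hpπ

theorem isPiSubgroup_sup {A B : Subgroup G} (hA : IsPiSubgroup π A) (hB : IsPiSubgroup π B)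
    (hBA : B ≤ Subgroup.normalizer (A : Set G)) : IsPiSubgroup π (A ⊔ B : Subgroup G) := by
  intro q hq hd
  have h1 : A.relIndex (A ⊔ B) ∣ Nat.card B := by
    have e : A.relIndex (A ⊔ B) = A.relIndex B :=
      Cfsg.Agent.Replacement.relIndex_sup_of_le_normalizer hBA
    rw [e]
    exact Subgroup.relIndex_dvd_card _ _
  have h2 : Nat.card A * A.relIndex (A ⊔ B) = Nat.card (A ⊔ B : Subgroup G) := by
    rw [← Subgroup.relIndex_bot_left A, ← Subgroup.relIndex_bot_left (A ⊔ B)]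
    exact Subgroup.relIndex_mul_relIndex _ _ _ bot_le le_sup_left
  rw [← h2] at hd
  rcases hq.dvd_mul.mp hd with h | h
  · exact hA q hq h
  · exact hB q hq (h.trans h1)

section Supplement

theorem relIndex_eq_of_normal (C S : Subgroup G) [C.Normal] :
    S.relIndex (C ⊔ S) = S.relIndex C := by
  have e : C.relIndex (C ⊔ S) = C.relIndex S := Subgroup.relIndex_sup_left S C
  have h1 : Nat.card C * C.relIndex (C ⊔ S) = Nat.card (C ⊔ S : Subgroup G) := by
    rw [← Subgroup.relIndex_bot_left C, ← Subgroup.relIndex_bot_left (C ⊔ S)]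
    exact Subgroup.relIndex_mul_relIndex _ _ _ bot_le le_sup_left
  have h2 : Nat.card S * S.relIndex (C ⊔ S) = Nat.card (C ⊔ S : Subgroup G) := by
    rw [← Subgroup.relIndex_bot_left S, ← Subgroup.relIndex_bot_left (C ⊔ S)]
    exact Subgroup.relIndex_mul_relIndex _ _ _ bot_le le_sup_right
  have h3 : Nat.card (C ⊓ S : Subgroup G) * S.relIndex C = Nat.card C := by
    rw [← Subgroup.inf_relIndex_left, ← Subgroup.relIndex_bot_left (C ⊓ S),
      ← Subgroup.relIndex_bot_left C]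
    exact Subgroup.relIndex_mul_relIndex _ _ _ bot_le inf_le_left
  have h4 : Nat.card (C ⊓ S : Subgroup G) * C.relIndex S = Nat.card S := by
    rw [← Subgroup.inf_relIndex_right, ← Subgroup.relIndex_bot_left (C ⊓ S),
      ← Subgroup.relIndex_bot_left S]
    exact Subgroup.relIndex_mul_relIndex _ _ _ bot_le inf_le_right
  refine Nat.eq_of_mul_eq_mul_left (Nat.card_pos (α := S)) ?_
  calc Nat.card S * S.relIndex (C ⊔ S) = Nat.card C * C.relIndex S := by rw [h2, ← h1, e]
    _ = Nat.card (C ⊓ S : Subgroup G) * C.relIndex S * S.relIndex C := by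
        rw [mul_right_comm, h3]
    _ = Nat.card S * S.relIndex C := by rw [h4]

theorem relIndex_dvd_index_of_normal (C S : Subgroup G) [C.Normal] : S.relIndex C ∣ S.index := by
  rw [← relIndex_eq_of_normal C S]
  exact Subgroup.relIndex_dvd_index_of_le le_sup_right

/-- A minimal supplement of a normal subgroup containing all π'-elements is a π-subgroup. -/
theorem exists_pi_supplement (C : Subgroup G) [C.Normal]
    (hC : ∀ n : G, (∀ p : ℕ, p.Prime → p ∣ orderOf n → p ∉ π) → n ∈ C) :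
    ∃ R : Subgroup G, IsPiSubgroup π R ∧ C ⊔ R = ⊤ := by
  obtain ⟨R, hR, hmin⟩ := (Set.toFinite {R : Subgroup G | C ⊔ R = ⊤}).exists_minimal ⟨⊤, by simp⟩
  refine ⟨R, fun q hq hqR => ?_, hR⟩
  by_contra hqπ
  haveI := Fact.mk hq
  obtain ⟨Q⟩ : Nonempty (Sylow q R) := Sylow.nonempty
  have hQC : (Q : Subgroup R) ≤ C.subgroupOf R := by
    intro x hx
    refine hC _ fun r hr hd => ?_
    obtain ⟨k, hk⟩ := Q.2 ⟨x, hx⟩
    have hk' : orderOf (x : G) ∣ q ^ k := by
      rw [Subgroup.orderOf_coe]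
      exact orderOf_dvd_of_pow_eq_one (congrArg Subtype.val hk)
    rwa [(Nat.prime_dvd_prime_iff_eq hr hq).mp (hr.dvd_of_dvd_pow (hd.trans hk'))]
  have hshrink : ∀ L : Subgroup R, L ⊔ C.subgroupOf R = ⊤ → L = ⊤ := by
    intro L hL
    have h1 : C ⊔ L.map R.subtype = ⊤ := by
      refine top_le_iff.mp (hR ▸ sup_le le_sup_left ?_)
      calc R = (L ⊔ C.subgroupOf R).map R.subtype := by
            rw [hL, ← MonoidHom.range_eq_map, Subgroup.range_subtype]
        _ ≤ C ⊔ L.map R.subtype := by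
            rw [Subgroup.map_sup, sup_comm]
            exact sup_le_sup_right (Subgroup.map_comap_le _ _) _
    have h2 : R ≤ L.map R.subtype := hmin h1 (Subgroup.map_subtype_le L)
    refine top_le_iff.mp fun x _ => ?_
    obtain ⟨y, hy, hyx⟩ := h2 x.2
    exact (Subtype.ext hyx : y = x) ▸ hy
  have hnorm : Subgroup.normalizer ((Q : Subgroup R) : Set R) = ⊤ :=
    hshrink _ (Sylow.normalizer_sup_eq_top' Q hQC)
  haveI : (Q : Subgroup R).Normal := Subgroup.normalizer_eq_top_iff.mp hnorm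
  have hcop : Nat.Coprime (Nat.card (Q : Subgroup R)) (Q : Subgroup R).index := Q.card_coprime_index
  obtain ⟨L, hL⟩ := Subgroup.exists_right_complement'_of_coprime hcop
  have hLtop : L = ⊤ := hshrink L (top_le_iff.mp (by
    rw [← hL.sup_eq_top, sup_comm]
    exact sup_le_sup_left hQC L))
  have hQbot : (Q : Subgroup R) = ⊥ := by
    have := hL.disjoint
    rwa [hLtop, disjoint_top] at this
  exact Q.ne_bot_of_dvd_card hqR hQbot

/-- The supplement may be taken to contain a given Sylow subgroup and a normal π-subgroup `D`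
containing the intersection of that Sylow subgroup with `C`. -/
theorem exists_pi_supplement_sylow {p : ℕ} [hp : Fact p.Prime] (C D : Subgroup G) [C.Normal]
    [D.Normal] (hC : ∀ n : G, (∀ p : ℕ, p.Prime → p ∣ orderOf n → p ∉ π) → n ∈ C)
    (hD : IsPiSubgroup π D) (S : Sylow p G) (hS : (S : Subgroup G) ⊓ C ≤ D) :
    ∃ R : Subgroup G, IsPiSubgroup π R ∧ C ⊔ R = ⊤ ∧ (S : Subgroup G) ≤ R := by
  obtain ⟨R0, hR0, hR0C⟩ := exists_pi_supplement C hC
  set R := D ⊔ R0
  have hR : IsPiSubgroup π R := isPiSubgroup_sup hD hR0 (Subgroup.le_normalizer_of_normal)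
  have hRC : C ⊔ R = ⊤ := top_le_iff.mp (hR0C ▸ sup_le_sup_left le_sup_right C)
  have hidx : ¬ p ∣ R.index := by
    intro hdvd
    rw [← Subgroup.relIndex_top_right, ← hRC, relIndex_eq_of_normal] at hdvd
    have h1 : R.relIndex C ∣ ((S : Subgroup G) ⊓ C).relIndex C :=
      Subgroup.relIndex_dvd_of_le_left C (hS.trans le_sup_left)
    rw [Subgroup.inf_relIndex_right] at h1
    exact S.not_dvd_index (hdvd.trans (h1.trans (relIndex_dvd_index_of_normal C S)))
  obtain ⟨T⟩ : Nonempty (Sylow p R) := Sylow.nonempty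
  have hT : IsPGroup p ((T : Subgroup R).map R.subtype) := T.2.map _
  have hTi : ¬ p ∣ ((T : Subgroup R).map R.subtype).index := by
    rw [Subgroup.index_map_subtype]
    exact fun h => (hp.out.dvd_mul.mp h).elim T.not_dvd_index hidx
  obtain ⟨n, hn⟩ := MulAction.exists_smul_eq G (hT.toSylow hTi) S
  refine ⟨R.map (MulAut.conj n).toMonoidHom, ?_, ?_, ?_⟩
  · intro q hq hd
    rw [Subgroup.card_map_of_injective (MulAut.conj n).injective] at hd
    exact hR q hq hd
  · have : (C ⊔ R).map (MulAut.conj n).toMonoidHom = ⊤ := by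
      rw [hRC]
      exact Subgroup.map_top_of_surjective _ (MulAut.conj n).surjective
    rw [Subgroup.map_sup] at this
    have hCn : C.map (MulAut.conj n).toMonoidHom = C := Subgroup.Normal.map_conj_eq C n
    rwa [hCn] at this
  · rw [← hn]
    rintro _ ⟨t, ht, rfl⟩
    exact ⟨t, Subgroup.map_subtype_le _ ht, rfl⟩

end Supplement

variable {H : Subgroup G} (hH : IsPiSubgroup π H) (hcov : PiCover π H) (hhom : PiHom π G)
  {p : ℕ} [Fact p.Prime] (hp : p ∈ π) (P : Sylow p G) (hP : (P : Subgroup G) ≤ H)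

section

include hP in
/-- A p-subgroup of `H` is conjugate by an element of `H` into `P`. -/
theorem exists_conj_into_sylow {X : Subgroup G} (hX : IsPGroup p X) (hXH : X ≤ H) :
    ∃ h ∈ H, ∀ x ∈ X, h⁻¹ * x * h ∈ (P : Subgroup G) := by
  obtain ⟨T, hT⟩ := (hX.comap_subtype (K := H)).exists_le_sylow
  obtain ⟨c, hc⟩ := MulAction.exists_smul_eq H T (P.subtype hP)
  refine ⟨(c : G)⁻¹, inv_mem c.2, fun x hx => ?_⟩
  have h1 : c * (⟨x, hXH hx⟩ : H) * c⁻¹ ∈ P.subtype hP := conj_mem_of_smul_eq hc (hT hx)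
  rw [inv_inv]
  exact h1

end

section

include hcov hhom hp hP

theorem tame_step (D : Subgroup G) (hD : IsTame P D)
    (habove : ∀ (A : Subgroup G) (g : G), A ≤ (P : Subgroup G) → Nat.card D < Nat.card A →
      (∀ a ∈ A, g⁻¹ * a * g ∈ (P : Subgroup G)) →
      ∃ y ∈ H, ∀ a ∈ A, y⁻¹ * a * y = g⁻¹ * a * g)
    (x : G) (hx : x ∈ Subgroup.normalizer (D : Set G)) :
    ∃ y ∈ H, ∀ d ∈ D, y⁻¹ * d * y = x⁻¹ * d * x := by
  have hDP := hD.le
  obtain ⟨_, -, hidx, -⟩ := hD
  set N := Subgroup.normalizer (D : Set G) with hN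
  set C := Subgroup.centralizer (D : Set G) with hC
  haveI : (C.subgroupOf N).Normal := inferInstanceAs
    ((Subgroup.centralizer (D : Set G)).subgroupOf (Subgroup.normalizer (D : Set G))).Normal
  haveI : (D.subgroupOf N).Normal := Subgroup.normal_in_normalizer
  have hSp : IsPGroup p ((P : Subgroup G).subgroupOf N) := P.2.comap_subtype
  have hSi : ¬ p ∣ ((P : Subgroup G).subgroupOf N).index := by
    rwa [Subgroup.inf_relIndex_right] at hidx
  set S : Sylow p N := hSp.toSylow hSi with hS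
  have hcent : ∀ c : G, c ∈ C → ∀ d ∈ D, c⁻¹ * d * c = d := by
    intro c hc d hd
    rw [mul_assoc, Subgroup.mem_centralizer_iff.mp hc d hd, inv_mul_cancel_left]
  have hconjD : ∀ n : G, n ∈ N → ∀ d ∈ D, n⁻¹ * d * n ∈ D := fun n hn d hd =>
    (Subgroup.mem_normalizer_iff''.mp hn d).mp hd
  by_cases hT0 : ∀ t : G, t ∈ P → t ∈ C → t ∈ D
  · -- `C_P(D) ≤ D`: a π-supplement of `C` in `N` containing `P ⊓ N`
    have hDπ : IsPiSubgroup π (D.subgroupOf N) := isPiSubgroup_of_isPGroup hp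
      ((P.2.to_le hDP).comap_subtype)
    obtain ⟨R, hR, hRC, hSR⟩ := exists_pi_supplement_sylow (C.subgroupOf N) (D.subgroupOf N)
      (fun n hn => hhom D (isPiSubgroup_of_isPGroup hp (P.2.to_le hDP)) n n.2
        (by rw [Subgroup.orderOf_coe]; exact hn))
      hDπ S (fun t ht => hT0 t ht.1 ht.2)
    obtain ⟨g, hg⟩ := hcov (R.map N.subtype) (fun q hq hd => hR q hq (by
      rwa [Subgroup.card_subtype] at hd))
    -- the image of `P ⊓ N` under `g`, moved into `P`
    set Z := ((P : Subgroup G) ⊓ N).map (MulAut.conj g⁻¹).toMonoidHom with hZ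
    have hZH : Z ≤ H := by
      rintro _ ⟨t, ⟨ht, htN⟩, rfl⟩
      have := hg t ⟨⟨t, htN⟩, hSR ht, rfl⟩
      simpa [MulAut.conj_apply] using this
    obtain ⟨h0, hh0, hZP⟩ := exists_conj_into_sylow P hP ((P.2.to_le inf_le_left).map _) hZH
    have hgP : ∀ t ∈ (P : Subgroup G) ⊓ N, (g * h0)⁻¹ * t * (g * h0) ∈ (P : Subgroup G) := by
      intro t ht
      simpa [MulAut.conj_apply, mul_assoc] using hZP _ ⟨t, ht, rfl⟩
    have hgR : ∀ r ∈ R, (g * h0)⁻¹ * (r : G) * (g * h0) ∈ H := by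
      intro r hr
      have h1 := mul_mem (mul_mem (inv_mem hh0) (hg r ⟨r, hr, rfl⟩)) hh0
      simpa [mul_assoc] using h1
    -- an element of `N` conjugating `R` into `H`
    obtain ⟨z, hzN, hzR⟩ : ∃ z ∈ N, ∀ r ∈ R, z⁻¹ * (r : G) * z ∈ H := by
      by_cases hDeq : D = (P : Subgroup G)
      · refine ⟨g * h0, inv_mem_iff.mp (mem_normalizer_of_conj_mem fun d hd => ?_), hgR⟩
        rw [inv_inv, hDeq]
        exact hgP d ⟨hDeq ▸ hd, Subgroup.le_normalizer hd⟩
      · have hlt := lt_inf_normalizer_of_lt P.2 (lt_of_le_of_ne hDP hDeq)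
        have hcard : Nat.card D < Nat.card ((P : Subgroup G) ⊓ N : Subgroup G) := by
          by_contra hle
          exact hlt.ne (Subgroup.eq_of_le_of_card_ge hlt.le (not_lt.mp hle))
        obtain ⟨y, hy, he⟩ := habove _ (g * h0) inf_le_left hcard hgP
        refine ⟨g * h0 * y⁻¹, ?_, fun r hr => ?_⟩
        · refine Subgroup.centralizer_le_normalizer _ (Subgroup.mem_centralizer_iff.mpr fun d hd => ?_)
          have h1 : y * (y⁻¹ * d * y) * y⁻¹ =
              y * ((g * h0)⁻¹ * d * (g * h0)) * y⁻¹ := by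
            rw [he d ⟨hDP hd, Subgroup.le_normalizer hd⟩]
          have h2 : d = (g * h0 * y⁻¹)⁻¹ * d * (g * h0 * y⁻¹) := by
            calc d = y * (y⁻¹ * d * y) * y⁻¹ := by group
              _ = y * ((g * h0)⁻¹ * d * (g * h0)) * y⁻¹ := h1
              _ = _ := by group
          calc d * (g * h0 * y⁻¹)
              = (g * h0 * y⁻¹) * ((g * h0 * y⁻¹)⁻¹ * d * (g * h0 * y⁻¹)) := by group
            _ = (g * h0 * y⁻¹) * d := by rw [← h2]
        · have h1 := mul_mem (mul_mem hy (hgR r hr)) (inv_mem hy)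
          simpa [mul_assoc] using h1
    have hx' : z * x * z⁻¹ ∈ N := mul_mem (mul_mem hzN hx) (inv_mem hzN)
    have hmem : (⟨z * x * z⁻¹, hx'⟩ : N) ∈ C.subgroupOf N ⊔ R := by rw [hRC]; trivial
    obtain ⟨c, hc, r, hr, hcr⟩ := Subgroup.mem_sup_of_normal_left.mp hmem
    have hcr' : (c : G) * (r : G) = z * x * z⁻¹ := congrArg Subtype.val hcr
    refine ⟨z⁻¹ * r * z, hzR r hr, fun d hd => ?_⟩
    have hd' : z * d * z⁻¹ ∈ D := (Subgroup.mem_normalizer_iff.mp hzN d).mp hd
    have hr' : (r : G) = (c : G)⁻¹ * (z * x * z⁻¹) := by rw [← hcr']; group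
    have hcd : (c : G) * (z * d * z⁻¹) * (c : G)⁻¹ = z * d * z⁻¹ := by
      simpa using hcent _ (inv_mem (hc : (c : G) ∈ C)) _ hd'
    calc (z⁻¹ * r * z)⁻¹ * d * (z⁻¹ * r * z)
        = x⁻¹ * z⁻¹ * ((c : G) * (z * d * z⁻¹) * (c : G)⁻¹) * (z * x) := by rw [hr']; group
      _ = x⁻¹ * z⁻¹ * (z * d * z⁻¹) * (z * x) := by rw [hcd]
      _ = x⁻¹ * d * x := by group
  · -- Frattini argument with `C_P(D)`
    push Not at hT0
    obtain ⟨t, htP, htC, htD⟩ := hT0
    set M := C.subgroupOf N with hM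
    have hTp : IsPGroup p (((S : Subgroup N) ⊓ M).subgroupOf M) :=
      (S.2.to_le inf_le_left).comap_subtype
    have hTi : ¬ p ∣ (((S : Subgroup N) ⊓ M).subgroupOf M).index := by
      intro hd
      have h1 : ((S : Subgroup N) ⊓ M).relIndex M ∣ (S : Subgroup N).index := by
        rw [Subgroup.inf_relIndex_right]
        exact relIndex_dvd_index_of_normal M S
      exact S.not_dvd_index (hd.trans h1)
    have htop := Sylow.normalizer_sup_eq_top (hTp.toSylow hTi)
    have hmap : ((hTp.toSylow hTi : Sylow p M) : Subgroup M).map M.subtype =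
        (S : Subgroup N) ⊓ M :=
      Subgroup.map_subgroupOf_eq_of_le inf_le_right
    rw [hmap, sup_comm] at htop
    have hmem : (⟨x, hx⟩ : N) ∈ M ⊔ Subgroup.normalizer (((S : Subgroup N) ⊓ M : Subgroup N) : Set N) := by
      rw [htop]; trivial
    obtain ⟨c, hc, m, hm, hcm⟩ := Subgroup.mem_sup_of_normal_left.mp hmem
    have hcm' : (c : G) * (m : G) = x := congrArg Subtype.val hcm
    set E := D ⊔ ((P : Subgroup G) ⊓ C)
    have hEP : E ≤ (P : Subgroup G) := sup_le hDP inf_le_left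
    have hEm : E ≤ (P : Subgroup G).comap (MulAut.conj (m : G)⁻¹).toMonoidHom := by
      refine sup_le (fun d hd => ?_) fun s hs => ?_
      · show (m : G)⁻¹ * d * ((m : G)⁻¹)⁻¹ ∈ (P : Subgroup G)
        rw [inv_inv]
        exact hDP (hconjD _ m.2 d hd)
      · have hsN : s ∈ N := Subgroup.centralizer_le_normalizer _ hs.2
        have h1 := (Subgroup.mem_normalizer_iff''.mp hm (⟨s, hsN⟩ : N)).mp ⟨hs.1, hs.2⟩
        show (m : G)⁻¹ * s * ((m : G)⁻¹)⁻¹ ∈ (P : Subgroup G)
        rw [inv_inv]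
        exact h1.1
    have hlt : D < E := lt_of_le_of_ne le_sup_left fun he =>
      htD (he.ge ((le_sup_right : (P : Subgroup G) ⊓ C ≤ E) ⟨htP, htC⟩))
    have hcard : Nat.card D < Nat.card E := by
      by_contra hle
      exact hlt.ne (Subgroup.eq_of_le_of_card_ge hlt.le (not_lt.mp hle))
    obtain ⟨y, hy, he⟩ := habove E m hEP hcard fun a ha => by
      simpa [MulAut.conj_apply] using hEm ha
    refine ⟨y, hy, fun d hd => ?_⟩
    rw [he d ((le_sup_left : D ≤ E) hd), ← hcm']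
    calc (m : G)⁻¹ * d * m = (m : G)⁻¹ * ((c : G)⁻¹ * d * c) * m := by rw [show (c : G)⁻¹ * d * (c : G) = d from hcent _ hc d hd]
      _ = ((c : G) * m)⁻¹ * d * ((c : G) * m) := by group

/-- `H` controls strong fusion in its Sylow `p`-subgroup `P`, `p ∈ π`. -/
theorem exists_conj_eq (A : Set G) (g : G) (hA : A ⊆ (P : Set G))
    (hAg : ∀ a ∈ A, g⁻¹ * a * g ∈ P) :
    ∃ y ∈ H, ∀ a ∈ A, y⁻¹ * a * y = g⁻¹ * a * g := by
  refine exists_conj_eq_of_tame P H ?_ A g hA hAg
  suffices key : ∀ k : ℕ, ∀ D : Subgroup G, Nat.card (P : Subgroup G) - Nat.card D = k →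
      IsTame P D → ∀ x ∈ Subgroup.normalizer (D : Set G),
        ∃ y ∈ H, ∀ d ∈ D, y⁻¹ * d * y = x⁻¹ * d * x from fun D hD => key _ D rfl hD
  intro k
  induction k using Nat.strong_induction_on with
  | _ k IH =>
  intro D hk hD
  refine tame_step hcov hhom hp P hP D hD ?_
  intro B b hBP hlt hbP
  suffices hh : ∀ (A : Set G) (w : G), FusionChain (IsTame P) A w → Nat.card D < A.ncard →
      ∃ y ∈ H, ∀ a ∈ A, y⁻¹ * a * y = w⁻¹ * a * w from
    hh B b (alperin P B b hBP hbP) (by rwa [← Nat.card_coe_set_eq])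
  intro A w hw
  induction hw with
  | one A => exact fun _ => ⟨1, one_mem _, fun a _ => rfl⟩
  | @step A E v h hE hAE hv _ ih =>
    intro hlt'
    have hcardE : Nat.card D < Nat.card E := by
      refine hlt'.trans_le ?_
      rw [← SetLike.coe_sort_coe, Nat.card_coe_set_eq]
      exact Set.ncard_le_ncard hAE (Set.toFinite _)
    have hEc : Nat.card E ≤ Nat.card (P : Subgroup G) := Subgroup.card_le_of_le hE.le
    obtain ⟨y, hy, he⟩ := IH _ (by omega) E rfl hE v hv
    obtain ⟨z, hz, he'⟩ := ih (by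
      rwa [Set.ncard_image_of_injective _ (fun a b hab => by simpa using hab)])
    refine ⟨y * z, mul_mem hy hz, fun a ha => ?_⟩
    calc (y * z)⁻¹ * a * (y * z) = z⁻¹ * (y⁻¹ * a * y) * z := by group
      _ = z⁻¹ * (v⁻¹ * a * v) * z := by rw [he a (hAE ha)]
      _ = h⁻¹ * (v⁻¹ * a * v) * h := he' _ ⟨a, ha, rfl⟩
      _ = (v * h)⁻¹ * a * (v * h) := by group

end

section

include hcov

/-- `H` contains a Sylow `p`-subgroup of `G` for `p ∈ π`. -/
theorem exists_sylow_le (hp : p ∈ π) : ∃ P : Sylow p G, (P : Subgroup G) ≤ H := by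
  obtain ⟨P⟩ : Nonempty (Sylow p G) := Sylow.nonempty
  obtain ⟨g, hg⟩ := hcov P (isPiSubgroup_of_isPGroup hp P.2)
  refine ⟨g⁻¹ • P, ?_⟩
  rintro _ ⟨x, hx, rfl⟩
  have := hg x hx
  simpa using this

include hhom in
/-- Conjugate p-elements of `H` are conjugate in `H`. -/
theorem exists_conj_pElement (hp : p ∈ π) {u v g : G} (hu : u ∈ H) (hv : v ∈ H) {k : ℕ}
    (huk : u ^ p ^ k = 1) (huv : g⁻¹ * u * g = v) : ∃ y ∈ H, y⁻¹ * u * y = v := by
  obtain ⟨P, hP⟩ := exists_sylow_le hcov hp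
  have hpg : ∀ w : G, w ^ p ^ k = 1 → IsPGroup p (Subgroup.zpowers w) := fun w hw => by
    refine IsPGroup.of_card_dvd_pow (n := k) ?_
    rw [Nat.card_zpowers]
    exact orderOf_dvd_of_pow_eq_one hw
  have hvk : v ^ p ^ k = 1 := by
    rw [← huv, show g⁻¹ * u * g = MulAut.conj g⁻¹ u by simp, ← map_pow, huk, map_one]
  obtain ⟨a, ha, haP⟩ := exists_conj_into_sylow P hP (hpg u huk) (Subgroup.zpowers_le.mpr hu)
  obtain ⟨b, hb, hbP⟩ := exists_conj_into_sylow P hP (hpg v hvk) (Subgroup.zpowers_le.mpr hv)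
  have h1 := haP u (Subgroup.mem_zpowers u)
  have h2 := hbP v (Subgroup.mem_zpowers v)
  obtain ⟨y, hy, he⟩ := exists_conj_eq hcov hhom hp P hP {a⁻¹ * u * a} (a⁻¹ * g * b)
    (Set.singleton_subset_iff.mpr h1) (fun w hw => by
      rw [Set.mem_singleton_iff.mp hw]
      show _ ∈ (P : Subgroup G)
      convert h2 using 1
      rw [← huv]; group)
  refine ⟨a * y * b⁻¹, mul_mem (mul_mem ha hy) (inv_mem hb), ?_⟩
  calc (a * y * b⁻¹)⁻¹ * u * (a * y * b⁻¹) = b * (y⁻¹ * (a⁻¹ * u * a) * y) * b⁻¹ := by group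
    _ = b * ((a⁻¹ * g * b)⁻¹ * (a⁻¹ * u * a) * (a⁻¹ * g * b)) * b⁻¹ := by rw [he _ rfl]
    _ = v := by rw [← huv]; group

end

theorem IsPiSubgroup.orderOf_mem (hH : IsPiSubgroup π H) {x : G} (hx : x ∈ H) {q : ℕ}
    (hq : q.Prime) (hd : q ∣ orderOf x) : q ∈ π :=
  hH q hq (hd.trans (H.orderOf_dvd_natCard hx))

end Cfsg.Agent.DPiHom

namespace Cfsg.Agent.DPiHom

open Cfsg

universe u

variable {π : Set ℕ}

/-- `H` controls the fusion of its elements. -/
theorem exists_conj_of_card (n : ℕ) : ∀ (G : Type u) [Group G] [Finite G],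
    Nat.card G = n → ∀ H : Subgroup G, IsPiSubgroup π H → PiCover π H → PiHom π G →
      ∀ x ∈ H, ∀ y ∈ H, ∀ g : G, g⁻¹ * x * g = y → ∃ h ∈ H, h⁻¹ * x * h = y := by
  induction n using Nat.strong_induction_on with
  | _ n IH =>
  intro G _ _ hn H hH hcov hhom x hx y hy g hxy
  by_cases hxc : x ∈ Subgroup.center G
  · refine ⟨1, one_mem _, ?_⟩
    rw [← hxy, mul_assoc g⁻¹ x g, ← Subgroup.mem_center_iff.mp hxc g]
    simp
  -- a noncentral power of `x` of prime power order
  obtain ⟨p, hpp, r, k, huk, huc⟩ : ∃ p : ℕ, p.Prime ∧ ∃ r k : ℕ,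
      (x ^ r) ^ p ^ k = 1 ∧ x ^ r ∉ Subgroup.center G := by
    set m := orderOf (QuotientGroup.mk x : G ⧸ Subgroup.center G) with hm
    have hm1 : m ≠ 1 := fun h => hxc ((QuotientGroup.eq_one_iff x).mp (orderOf_eq_one_iff.mp h))
    have hp := Nat.minFac_prime hm1
    obtain ⟨k, r, hr, hkr⟩ := Nat.exists_eq_pow_mul_and_not_dvd
      (Nat.pos_iff_ne_zero.mp (orderOf_pos x)) m.minFac hp.ne_one
    refine ⟨m.minFac, hp, r, k, ?_, fun hc => hr ((Nat.minFac_dvd m).trans ?_)⟩
    · rw [← pow_mul, mul_comm, ← hkr, pow_orderOf_eq_one]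
    · exact orderOf_dvd_of_pow_eq_one
        (((QuotientGroup.eq_one_iff (x ^ r)).mpr hc :) : (QuotientGroup.mk x : G ⧸ _) ^ r = 1)
  haveI := Fact.mk hpp
  set u := x ^ r with hu
  have hu1 : u ≠ 1 := fun h => huc (h ▸ one_mem _)
  have hpπ : p ∈ π := by
    refine IsPiSubgroup.orderOf_mem hH (pow_mem hx r) hpp ?_
    obtain ⟨j, -, hj⟩ := (Nat.dvd_prime_pow hpp).mp (orderOf_dvd_of_pow_eq_one huk)
    rw [hj]
    refine dvd_pow_self p fun h0 => hu1 ?_
    rwa [h0, pow_zero, orderOf_eq_one_iff] at hj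
  have huH : u ∈ H := pow_mem hx r
  have huy : g⁻¹ * u * g = y ^ r := by
    rw [← hxy, hu, show g⁻¹ * x * g = MulAut.conj g⁻¹ x by simp, ← map_pow]
    simp
  obtain ⟨w, hw, hwu⟩ := exists_conj_pElement hcov hhom hpπ huH (pow_mem hy r) huk huy
  set M := Subgroup.centralizer ({u} : Set G) with hM
  have hmemM : ∀ a : G, a ∈ M ↔ a * u = u * a := fun a =>
    Subgroup.mem_centralizer_singleton_iff
  have hMlt : Nat.card M < n := by
    refine hn ▸ lt_of_le_of_ne (Nat.le_of_dvd Nat.card_pos M.card_subgroup_dvd_card) fun he => ?_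
    exact huc (Subgroup.mem_center_iff.mpr fun a =>
      (hmemM a).mp ((Subgroup.card_eq_iff_eq_top M).mp he ▸ Subgroup.mem_top a))
  have hc : g * w⁻¹ ∈ M := by
    rw [hmemM]
    have h1 : g⁻¹ * u * g = w⁻¹ * u * w := by rw [huy, hwu]
    calc g * w⁻¹ * u = g * (w⁻¹ * u * w) * w⁻¹ := by group
      _ = g * (g⁻¹ * u * g) * w⁻¹ := by rw [h1]
      _ = u * (g * w⁻¹) := by group
  have hxM : x ∈ M := (hmemM x).mpr ((Commute.self_pow x r).eq)
  -- hypotheses inherited by `M`
  have hcovM : PiCover π (H.subgroupOf M) := by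
    intro U hU
    have hUM : U.map M.subtype ≤ M := Subgroup.map_subtype_le U
    have huU : U.map M.subtype ≤ Subgroup.normalizer ((Subgroup.zpowers u : Subgroup G) : Set G) := by
      refine hUM.trans (le_trans ?_ (Subgroup.centralizer_le_normalizer _))
      rw [Subgroup.zpowers_eq_closure, Subgroup.centralizer_closure]
    have hπu : IsPiSubgroup π (Subgroup.zpowers u ⊔ U.map M.subtype : Subgroup G) :=
      isPiSubgroup_sup (fun q hq hd => IsPiSubgroup.orderOf_mem hH huH hq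
        (by rwa [Nat.card_zpowers] at hd))
        (fun q hq hd => hU q hq (by rwa [Subgroup.card_subtype] at hd)) huU
    obtain ⟨g', hg'⟩ := hcov _ hπu
    obtain ⟨w', hw', hwu'⟩ := exists_conj_pElement hcov hhom hpπ huH
      (hg' u ((le_sup_left : Subgroup.zpowers u ≤ _) (Subgroup.mem_zpowers u))) huk rfl
    have hc' : g' * w'⁻¹ ∈ M := by
      rw [hmemM]
      calc g' * w'⁻¹ * u = g' * (w'⁻¹ * u * w') * w'⁻¹ := by group
        _ = g' * (g'⁻¹ * u * g') * w'⁻¹ := by rw [hwu']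
        _ = u * (g' * w'⁻¹) := by group
    refine ⟨⟨_, hc'⟩, fun a ha => ?_⟩
    have h1 := mul_mem (mul_mem hw' (hg' a ((le_sup_right : U.map M.subtype ≤ _) ⟨a, ha, rfl⟩)))
      (inv_mem hw')
    show (g' * w'⁻¹)⁻¹ * (a : G) * (g' * w'⁻¹) ∈ H
    simpa [mul_assoc] using h1
  have hHM : IsPiSubgroup π (H.subgroupOf M) := fun q hq hd => hH q hq
    (hd.trans (Subgroup.card_comap_dvd_of_injective H M.subtype M.subtype_injective))
  have hy' : w * y * w⁻¹ = (g * w⁻¹)⁻¹ * x * (g * w⁻¹) := by rw [← hxy]; group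
  have hy'M : w * y * w⁻¹ ∈ M := hy' ▸ mul_mem (mul_mem (inv_mem hc) hxM) hc
  obtain ⟨h, hh, hhe⟩ := IH _ hMlt M rfl (H.subgroupOf M) hHM hcovM (piHom_subgroup hhom M)
    ⟨x, hxM⟩ hx ⟨_, hy'M⟩ (mul_mem (mul_mem hw hy) (inv_mem hw)) ⟨_, hc⟩ (Subtype.ext hy'.symm)
  refine ⟨(h : G) * w, mul_mem hh hw, ?_⟩
  have h2 : (h : G)⁻¹ * x * h = w * y * w⁻¹ := congrArg Subtype.val hhe
  calc ((h : G) * w)⁻¹ * x * (h * w) = w⁻¹ * ((h : G)⁻¹ * x * h) * w := by group
    _ = y := by rw [h2]; group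

variable {G : Type u} [Group G] [Finite G]

/-- A group with property D_π which is π-homogeneous has a normal π-complement. -/
theorem exists_piPrime_subgroup (hD : IsDPiGroup π G) (hhom : PiHom π G) :
    ∃ K : Subgroup G, ∀ x : G, x ∈ K ↔ ∀ p : ℕ, p.Prime → p ∣ orderOf x → p ∉ π := by
  have hbot : IsPiSubgroup π (⊥ : Subgroup G) := fun q hq hd => by
    rw [Subgroup.card_bot] at hd
    exact absurd hd hq.not_dvd_one
  obtain ⟨H, -, hHmax⟩ := Finite.exists_le_maximal (p := IsPiSubgroup π) hbot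
  have hH : IsPiSubgroup π H := hHmax.1
  have hcov : PiCover π H := by
    intro U hU
    obtain ⟨V, hUV, hV⟩ := Finite.exists_le_maximal (p := IsPiSubgroup π) hU
    obtain ⟨g, hg⟩ := hD H V hHmax hV
    refine ⟨g, fun a ha => ?_⟩
    obtain ⟨b, hb, hba⟩ := (hg ▸ hUV ha : a ∈ H.map (MulAut.conj g).toMonoidHom)
    rw [← hba]
    simpa [mul_assoc] using hb
  have hidx : ∀ q : ℕ, q.Prime → q ∈ π → ¬ q ∣ H.index := by
    intro q hq hqπ
    haveI := Fact.mk hq
    obtain ⟨P, hP⟩ := exists_sylow_le hcov hqπ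
    exact fun hd => P.not_dvd_index (hd.trans (Subgroup.index_dvd_of_le hP))
  have hHall : Nat.Coprime (Nat.card H) H.index :=
    Nat.coprime_of_dvd fun q hq h1 h2 => hidx q hq (hH q hq h1) h2
  obtain ⟨K, hK, hKsup, hKinf⟩ := CharInt.HallTransfer.exists_normal_complement H hHall
    (fun x hx y hy hc => by
      obtain ⟨c, hc⟩ := isConj_iff.mp hc
      obtain ⟨h, hh, he⟩ := exists_conj_of_card _ G rfl H hH hcov hhom x hx y hy c⁻¹ (by simpa using hc)
      exact ⟨h⁻¹, inv_mem hh, by simpa using he⟩)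
    (fun E q _ _ hE => by
      obtain ⟨g, hg⟩ := hcov E fun s hs hd => hH s hs (hd.trans hE)
      refine ⟨g⁻¹, ?_⟩
      rintro _ ⟨e, he, rfl⟩
      simpa using hg e he)
  haveI := hK
  have hcompl : Subgroup.IsComplement' K H :=
    Subgroup.isComplement'_of_disjoint_and_mul_eq_univ (disjoint_iff.mpr hKinf)
      (by rw [← Subgroup.normal_mul, hKsup, Subgroup.coe_top])
  refine ⟨K, fun x => ⟨fun hx q hq hd hqπ => ?_, fun hx => ?_⟩⟩
  · refine hidx q hq hqπ ?_
    rw [hcompl.index_eq_card]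
    exact hd.trans (K.orderOf_dvd_natCard hx)
  · rw [← QuotientGroup.eq_one_iff (N := K), ← orderOf_eq_one_iff]
    by_contra hne
    obtain ⟨q, hq, hqd⟩ := Nat.exists_prime_and_dvd hne
    refine hx q hq (hqd.trans (orderOf_map_dvd (QuotientGroup.mk' K) x)) (hH q hq ?_)
    rw [← hcompl.symm.index_eq_card]
    exact hqd.trans (orderOf_dvd_natCard _)

end Cfsg.Agent.DPiHom
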